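import Cfsg.Agent.SporB.ON.L37.Model
import Cfsg.Agent.SporB.ON.K.Cert
import Cfsg.Agent.SporB.ON.L.Cert
import Cfsg.Agent.SporB.ON.D.Cert

/-!
A group of order 3753792 satisfying the relators of `a, ..., f` is `PSL(3,7).2`.
-/

set_option autoImplicit false
set_option maxRecDepth 100000

namespace Cfsg.Agent.CosetEnum.ON.L37

variable {G : Type} [Group G]

theorem gsub_card_le {v : ℕ → G} (hv : ∀ V ∈ relsH, evalWord v V = 1) :
    Nat.card (Glue.gsub v [2, 3, 4, 5, 6, 7]) ≠ 0 ∧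
      Nat.card (Glue.gsub v [2, 3, 4, 5, 6, 7]) ≤ 3753792 := by
  have b1 := Glue.relIndex_le K.cert v hv [2, 3, 4, 5, 6, 7] rfl K.inv_ok (by decide +kernel)
    (rels := K.rels) (by decide +kernel) K.rules_ok [2, 3, 4, 5] (by decide +kernel)
  have b2 := Glue.relIndex_le L.cert v hv [2, 3, 4, 5] rfl L.inv_ok (by decide +kernel)
    (rels := L.rels) (by decide +kernel) L.rules_ok [4, 5] (by decide +kernel)
  have b3 := Glue.relIndex_le D.cert v hv [4, 5] rfl D.inv_ok (by decide +kernel)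
    (rels := D.rels) (by decide +kernel) D.rules_ok [] (by decide +kernel)
  have h1 : Glue.gsub v [] ≤ Glue.gsub v [4, 5] := Glue.gsub_mono _ (by decide)
  have h2 : Glue.gsub v [4, 5] ≤ Glue.gsub v [2, 3, 4, 5] := Glue.gsub_mono _ (by decide)
  have h3 : Glue.gsub v [2, 3, 4, 5] ≤ Glue.gsub v [2, 3, 4, 5, 6, 7] := Glue.gsub_mono _ (by decide)
  have hbot : Glue.gsub v [] = ⊥ := by simp [Glue.gsub]
  rw [show Nat.card (Glue.gsub v [2, 3, 4, 5, 6, 7]) =
      (Glue.gsub v []).relIndex (Glue.gsub v [4, 5]) *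
      (Glue.gsub v [4, 5]).relIndex (Glue.gsub v [2, 3, 4, 5]) *
      (Glue.gsub v [2, 3, 4, 5]).relIndex (Glue.gsub v [2, 3, 4, 5, 6, 7]) by
    rw [Subgroup.relIndex_mul_relIndex _ _ _ h1 h2,
      Subgroup.relIndex_mul_relIndex _ _ _ (h1.trans h2) h3, hbot, Subgroup.relIndex_bot_left]]
  refine ⟨?_, ?_⟩
  · simp only [Nat.mul_ne_zero_iff]
    exact ⟨⟨b3.1, b2.1⟩, b1.1⟩
  · calc _ ≤ 16 * 42 * 5586 := Nat.mul_le_mul (Nat.mul_le_mul b3.2 b2.2) b1.2
      _ = _ := by norm_num

theorem evalWord_pair (v : ℕ → G) : ∀ V : List ℕ,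
    evalWord (fun l => (v l, w l)) V = (evalWord v V, evalWord w V)
  | [] => rfl
  | l :: V => by
    show (v l, w l) * evalWord _ V = _
    rw [evalWord_pair v V]
    rfl

theorem bijective_of {A B : Type} [Group A] [Group B] (f : A →* B) (hs : Function.Surjective f)
    (hA : Nat.card A ≠ 0) (h : Nat.card A ≤ Nat.card B) : Function.Bijective f := by
  haveI := Nat.finite_of_card_ne_zero hA
  exact hs.bijective_of_nat_card_le h

theorem exists_iso {v : ℕ → G} (hv : ∀ V ∈ relsH, evalWord v V = 1)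
    (hc : Nat.card (Glue.gsub v [2, 3, 4, 5, 6, 7]) = 3753792) :
    Nonempty (Glue.gsub v [2, 3, 4, 5, 6, 7] ≃* W) := by
  set u : ℕ → G × W := fun l => (v l, w l)
  have hu : ∀ V ∈ relsH, evalWord u V = 1 := fun V hV => by
    rw [evalWord_pair, hv V hV, w_rels V hV]; rfl
  obtain ⟨hne, hle⟩ := gsub_card_le hu
  set P := Glue.gsub u [2, 3, 4, 5, 6, 7]
  have himg : ∀ {X : Type} [Group X] (f : G × W →* X),
      P.map f = Subgroup.closure {g | g ∈ [2, 3, 4, 5, 6, 7].map (fun l => f (u l))} := by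
    intro X _ f
    rw [show P = Subgroup.closure {g | g ∈ [2, 3, 4, 5, 6, 7].map u} from rfl, MonoidHom.map_closure]
    congr 1
    ext g
    simp only [Set.mem_image, Set.mem_ofPred_eq, List.mem_map]
    exact ⟨fun ⟨_, ⟨l, hl, rfl⟩, h⟩ => ⟨l, hl, h⟩, fun ⟨l, hl, h⟩ => ⟨_, ⟨l, hl, rfl⟩, h⟩⟩
  have e1 : P.map (MonoidHom.fst G W) = Glue.gsub v [2, 3, 4, 5, 6, 7] := himg _
  have e2 : P.map (MonoidHom.snd G W) = ⊤ := (himg _).trans range_closure_top
  have b1 := bijective_of ((MonoidHom.fst G W).subgroupMap P)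
    (MonoidHom.subgroupMap_surjective _ _) hne (by rw [e1, hc]; exact hle)
  have b2 := bijective_of ((MonoidHom.snd G W).subgroupMap P)
    (MonoidHom.subgroupMap_surjective _ _) hne (by rw [e2, Subgroup.card_top, card_W]; exact hle)
  exact ⟨((MulEquiv.subgroupCongr e1.symm).trans (MulEquiv.ofBijective _ b1).symm).trans
    (((MulEquiv.ofBijective _ b2).trans (MulEquiv.subgroupCongr e2)).trans Subgroup.topEquiv)⟩

/-- Pulling the kernel of the projection to the group of order 2 back. -/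
theorem exists_normal {v : ℕ → G} (hv : ∀ V ∈ relsH, evalWord v V = 1)
    (hc : Nat.card (Glue.gsub v [2, 3, 4, 5, 6, 7]) = 3753792) :
    ∃ N : Subgroup (Glue.gsub v [2, 3, 4, 5, 6, 7]), N.Normal ∧ N.index = 2 ∧
      Nonempty (N ≃* Matrix.ProjectiveSpecialLinearGroup (Fin 3) (ZMod 7)) := by
  obtain ⟨e⟩ := exists_iso hv hc
  let f : W →* Multiplicative (ZMod 2) := SemidirectProduct.rightHom
  have hf : Function.Surjective f := SemidirectProduct.rightHom_surjective
  refine ⟨(f.comp e.toMonoidHom).ker, inferInstance, ?_, ?_⟩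
  · rw [Subgroup.index_ker, MonoidHom.range_eq_top.mpr (show Function.Surjective (f ∘ e) from hf.comp e.surjective), Subgroup.card_top,
      Nat.card_eq_fintype_card, Fintype.card_multiplicative, ZMod.card]
  · have h1 : (f.comp e.toMonoidHom).ker = f.ker.map e.symm.toMonoidHom := by
      ext x
      rw [Subgroup.mem_map]
      refine ⟨fun hx => ⟨e x, hx, e.symm_apply_apply x⟩, ?_⟩
      rintro ⟨y, hy, rfl⟩
      show f (e (e.symm y)) = 1
      rwa [e.apply_symm_apply]
    have e3 : f.ker = (SemidirectProduct.inl : PSL →* W).range :=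
      SemidirectProduct.range_inl_eq_ker_rightHom.symm
    exact ⟨((MulEquiv.subgroupCongr h1).trans
      ((e.symm.subgroupMap f.ker).symm.trans (MulEquiv.subgroupCongr e3))).trans
      (MonoidHom.ofInjective SemidirectProduct.inl_injective).symm⟩

end Cfsg.Agent.CosetEnum.ON.L37
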