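import Cfsg.Agent.SporB.ON.L37.Group

/-!
Letters of `a, ..., f` in `PSL(3,7).2` and words for transvections.
-/

set_option autoImplicit false
set_option maxRecDepth 100000

namespace Cfsg.Agent.CosetEnum.ON.L37

/-- Symmetric matrices. -/
def tabA : List ℕ := [16781313, 16781313, 19706569, 72164041, 16781313, 88432704, 114517784, 798912]

/-- Their inverses. -/
def tabI : List ℕ := [16781313, 16781313, 39413138, 19702996, 16781313, 287829, 94821488, 1331520]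

/-- The relators used. -/
def relsH : List (List ℕ) := [[2, 2], [3, 3], [4, 4], [5, 5], [6, 6], [7, 7], [2, 4, 2, 4], [2, 5, 2, 5], [2, 6, 2, 6], [2, 7, 2, 7], [3, 5, 3, 5], [3, 6, 3, 6], [3, 7, 3, 7], [4, 6, 4, 6], [4, 7, 4, 7], [5, 7, 5, 7], [2, 3, 2, 3, 2, 3], [3, 4, 3, 4, 3, 4], [5, 6, 5, 6, 5, 6], [6, 7, 6, 7, 6, 7], [2, 7, 5, 4, 5, 4, 5, 4, 5, 4], [4, 5, 4, 5, 4, 5, 4, 5, 4, 5, 4, 5, 4, 5, 4, 5], [3, 2, 4, 5, 4, 5, 4, 5, 4, 5, 3, 2, 4, 5, 4, 5, 4, 5, 4, 5]]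

/-- Row, column, scalar and word of a transvection. -/
def transWords : List (ℕ × ℕ × ℕ × List ℕ) := [(0, 1, 2, [6, 3, 4, 5, 4, 5, 6, 3, 4, 5, 4, 5, 3, 4, 5, 6, 5, 4, 5, 2, 3, 4, 5, 6, 3, 2]), (0, 2, 1, [6, 7, 5, 6, 4, 5, 2, 3, 4, 5, 6, 5, 3, 4, 5, 3, 4, 5, 6, 7, 3, 4, 5, 6]), (1, 0, 1, [5, 3, 4, 5, 2, 3, 4, 5, 6, 4, 5, 4, 5, 3, 4, 5, 6, 4, 5, 4, 5, 6, 3, 4, 5, 2]), (1, 2, 4, [5, 3, 4, 5, 6, 7, 3, 4, 5, 2, 3, 4, 5, 6, 5, 4, 5, 3, 4, 5, 6, 4, 5, 3, 4, 5]), (2, 0, 4, [6, 7, 4, 5, 6, 4, 5, 3, 4, 5, 6, 3, 4, 5, 3, 4, 5, 6, 3, 4, 5, 4, 5, 6]), (2, 1, 2, [7, 5, 6, 4, 5, 2, 3, 4, 5, 6, 4, 5, 4, 5, 3, 4, 5, 6, 5, 4, 5, 2, 3, 4, 5, 2, 3, 2])]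

end Cfsg.Agent.CosetEnum.ON.L37
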