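import Cfsg.Agent.Lib.LinearGroup.Card
import Cfsg.Agent.Lib.CosetEnum.Pack
import Mathlib.GroupTheory.SemidirectProduct
import Mathlib.LinearAlgebra.Matrix.ProjectiveSpecialLinearGroup

/-!
`PSL(3,7)` extended by the inverse transpose, with matrices packed in base 8.
-/

set_option autoImplicit false

namespace Cfsg.Agent.CosetEnum.ON.L37

open Matrix

abbrev SL : Type := Matrix.SpecialLinearGroup (Fin 3) (ZMod 7)
abbrev PSL : Type := Matrix.ProjectiveSpecialLinearGroup (Fin 3) (ZMod 7)

/-- The inverse transpose. -/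
def invTHom : SL →* SL where
  toFun A := Matrix.SpecialLinearGroup.transpose A⁻¹
  map_one' := Subtype.ext (by simp)
  map_mul' A B := by
    apply Subtype.ext
    simp only [_root_.mul_inv_rev, Matrix.SpecialLinearGroup.coe_transpose,
      Matrix.SpecialLinearGroup.coe_mul, Matrix.transpose_mul]

theorem invT_invT (A : SL) : invTHom (invTHom A) = A := by
  apply Subtype.ext
  show ((Matrix.SpecialLinearGroup.transpose A⁻¹)⁻¹ : SL).1ᵀ = A.1
  simp only [Matrix.SpecialLinearGroup.coe_inv, Matrix.SpecialLinearGroup.coe_transpose,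
    Matrix.adjugate_transpose, Matrix.transpose_transpose]
  rw [← Matrix.SpecialLinearGroup.coe_inv, ← Matrix.SpecialLinearGroup.coe_inv, inv_inv]

/-- The inverse transpose as an automorphism. -/
def invT : SL ≃* SL where
  toFun := invTHom
  invFun := invTHom
  left_inv := invT_invT
  right_inv := invT_invT
  map_mul' := map_mul invTHom

theorem map_center : (Subgroup.center SL).map (invT : SL →* SL) = Subgroup.center SL :=
  Subgroup.characteristic_iff_map_eq.mp inferInstance invT

/-- The induced automorphism of `PSL`. -/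
noncomputable def theta : MulAut PSL :=
  QuotientGroup.congr (Subgroup.center SL) (Subgroup.center SL) invT map_center

theorem theta_mk (A : SL) : theta (QuotientGroup.mk A) = QuotientGroup.mk (invTHom A) := rfl

theorem theta_sq : theta * theta = 1 := by
  ext x
  induction x using QuotientGroup.induction_on with
  | H A => show theta (theta (QuotientGroup.mk A)) = _; rw [theta_mk, theta_mk, invT_invT]; rfl

theorem z2_cases : ∀ t : Multiplicative (ZMod 2), t = 1 ∨ t = Multiplicative.ofAdd 1 := by decide

/-- The action of the group of order 2. -/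
noncomputable def phi : Multiplicative (ZMod 2) →* MulAut PSL where
  toFun t := if t = 1 then 1 else theta
  map_one' := if_pos rfl
  map_mul' s t := by
    rcases z2_cases s with rfl | rfl <;> rcases z2_cases t with rfl | rfl
    · simp
    · simp
    · simp
    · rw [if_pos (by decide), if_neg (by decide)]
      exact theta_sq.symm

/-- `PSL(3,7).2`. -/
abbrev W : Type := PSL ⋊[phi] Multiplicative (ZMod 2)

theorem phi_tau : phi (Multiplicative.ofAdd 1) = theta :=
  show (if Multiplicative.ofAdd (1 : ZMod 2) = 1 then (1 : MulAut PSL) else theta) = theta from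
    if_neg (by decide)

theorem card_PSL : Nat.card PSL = 1876896 := by
  haveI : Fact (Nat.Prime 7) := ⟨by norm_num⟩
  have h := LinearGroup.gcd_mul_card_PSL (F := ZMod 7) (n := Fin 3)
  rw [LinearGroup.card_SL_eq_pow_mul_prod 2, Nat.card_zmod, Fintype.card_fin] at h
  rw [show (∑ i : Fin (2 + 1), (i : ℕ)) = 3 from rfl] at h
  norm_num [Finset.prod_range_succ, -Nat.card_eq_fintype_card] at h
  show Nat.card (Matrix.ProjectiveSpecialLinearGroup (Fin 3) (ZMod 7)) = 1876896
  omega

theorem card_W : Nat.card W = 3753792 := by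
  rw [SemidirectProduct.card, card_PSL, Nat.card_eq_fintype_card, Fintype.card_multiplicative,
    ZMod.card]

/-! Packed matrices. -/

/-- An entry. -/
def ent (m k : ℕ) : ℕ := m / 8 ^ k % 8

/-- The matrix of a packed number. -/
def toMat (m : ℕ) : Matrix (Fin 3) (Fin 3) (ZMod 7) :=
  Matrix.of fun i j => (ent m (3 * (i : ℕ) + j) : ZMod 7)

/-- An entry of a product. -/
def cmul (a b i j : ℕ) : ℕ :=
  (ent a (3 * i) * ent b j + ent a (3 * i + 1) * ent b (3 + j) + ent a (3 * i + 2) * ent b (6 + j)) % 7

/-- The packed product. -/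
def mulN (a b : ℕ) : ℕ :=
  cmul a b 0 0 + 8 * cmul a b 0 1 + 64 * cmul a b 0 2 + 512 * cmul a b 1 0 + 4096 * cmul a b 1 1 +
    32768 * cmul a b 1 2 + 262144 * cmul a b 2 0 + 2097152 * cmul a b 2 1 + 16777216 * cmul a b 2 2

theorem mulN_lt (a b : ℕ) : mulN a b < 134217728 := by
  have h : ∀ i j, cmul a b i j < 7 := fun i j => Nat.mod_lt _ (by norm_num)
  have := h 0 0; have := h 0 1; have := h 0 2; have := h 1 0; have := h 1 1; have := h 1 2
  have := h 2 0; have := h 2 1; have := h 2 2
  unfold mulN
  omega

theorem toMat_mulN (a b : ℕ) : toMat (mulN a b) = toMat a * toMat b := by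
  ext i j
  have h : ∀ i j, cmul a b i j < 7 := fun i j => Nat.mod_lt _ (by norm_num)
  have e : ∀ i j, i < 3 → j < 3 → ent (mulN a b) (3 * i + j) = cmul a b i j := by
    intro i j hi hj
    have := h 0 0; have := h 0 1; have := h 0 2; have := h 1 0; have := h 1 1; have := h 1 2
    have := h 2 0; have := h 2 1; have := h 2 2
    unfold ent mulN
    interval_cases i <;> interval_cases j <;> norm_num <;> omega
  rw [toMat, Matrix.of_apply, e i j i.2 j.2, Matrix.mul_apply, Fin.sum_univ_three]
  simp [cmul, toMat, ZMod.natCast_mod]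

/-- The identity matrix, packed. -/
def idN : ℕ := 16781313

theorem toMat_idN : toMat idN = 1 := by decide +kernel

/-- A packed scalar matrix. -/
def isScalar (m : ℕ) : Bool := Nat.beq m idN || Nat.beq m (2 * idN) || Nat.beq m (4 * idN)

theorem mk_scalar {M N : SL} {m : ℕ} {c : ZMod 7} (hc : c ^ 3 = 1) (hM : M.1 = toMat m)
    (hm : toMat m = c • N.1) : (QuotientGroup.mk M : PSL) = QuotientGroup.mk N := by
  rw [QuotientGroup.eq, ← Subgroup.inv_mem_iff, _root_.mul_inv_rev, inv_inv,
    Matrix.SpecialLinearGroup.mem_center_iff]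
  refine ⟨c, by simpa using hc, ?_⟩
  rw [Matrix.SpecialLinearGroup.coe_mul, hM, hm, Matrix.mul_smul, ← Matrix.SpecialLinearGroup.coe_mul,
    inv_mul_cancel, Matrix.SpecialLinearGroup.coe_one, Matrix.scalar_apply,
    ← Matrix.smul_one_eq_diagonal]

end Cfsg.Agent.CosetEnum.ON.L37
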