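import Cfsg.Agent.SporB.ON.L37.Data
import Cfsg.Agent.Lib.CosetEnum.Glue
import Cfsg.Agent.Lib.LinearGroup.Generation

/-!
Values of words in `a, ..., f` inside `PSL(3,7).2`.
-/

set_option autoImplicit false
set_option maxRecDepth 100000

namespace Cfsg.Agent.CosetEnum.ON.L37

open Matrix

/-- The packed matrix of a letter. -/
def mA (l : ℕ) : ℕ := tabA.getD l idN

/-- The packed inverse of a letter. -/
def mI (l : ℕ) : ℕ := tabI.getD l idN

theorem tab_check : ∀ l < 8, (toMat (mA l)).det = 1 ∧ toMat (mA l) * toMat (mI l) = 1 ∧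
    (toMat (mI l))ᵀ = toMat (mI l) := by
  simp only [Matrix.det_fin_three]
  decide +kernel

/-- The matrix of a letter. -/
def gA (l : ℕ) : SL := if h : (toMat (mA l)).det = 1 then ⟨toMat (mA l), h⟩ else 1

theorem gA_val {l : ℕ} (hl : l < 8) : (gA l).1 = toMat (mA l) := by
  have e : gA l = ⟨toMat (mA l), (tab_check l hl).1⟩ := dif_pos (tab_check l hl).1
  rw [e]

theorem invT_gA {l : ℕ} (hl : l < 8) : (invTHom (gA l)).1 = toMat (mI l) := by
  obtain ⟨-, hm, ht⟩ := tab_check l hl
  show ((gA l)⁻¹ : SL).1ᵀ = _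
  have h1 : (gA l).1 * toMat (mI l) = 1 := by rw [gA_val hl, hm]
  have h2 : ((gA l)⁻¹ : SL).1 = toMat (mI l) := by
    calc ((gA l)⁻¹ : SL).1 = ((gA l)⁻¹ : SL).1 * ((gA l).1 * toMat (mI l)) := by rw [h1, Matrix.mul_one]
      _ = ((gA l)⁻¹ * gA l : SL).1 * toMat (mI l) := by
        rw [Matrix.SpecialLinearGroup.coe_mul, Matrix.mul_assoc]
      _ = _ := by rw [inv_mul_cancel, Matrix.SpecialLinearGroup.coe_one, Matrix.one_mul]
  rw [h2, ht]

/-- The value of a letter. -/
noncomputable def w (l : ℕ) : W := ⟨QuotientGroup.mk (gA l), Multiplicative.ofAdd 1⟩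

/-- The packed matrix of a word, with its inverse transpose. -/
noncomputable def ev : List ℕ → ℕ
  | [] => idN + 134217728 * idN
  | l :: V => forceNat (ev V) fun p =>
      mulN (mA l) (p / 134217728) + 134217728 * mulN (mI l) (p % 134217728)

theorem ev_spec : ∀ V : List ℕ, (∀ l ∈ V, l < 8) →
    ∃ M : SL, M.1 = toMat (ev V % 134217728) ∧ (invTHom M).1 = toMat (ev V / 134217728) ∧
      evalWord w V = ⟨QuotientGroup.mk M, Multiplicative.ofAdd (V.length : ZMod 2)⟩
  | [], _ => by
    refine ⟨1, ?_, ?_, ?_⟩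
    · rw [show ev [] % 134217728 = idN by decide +kernel, toMat_idN]; rfl
    · rw [show ev [] / 134217728 = idN by decide +kernel, toMat_idN, map_one]; rfl
    · rfl
  | l :: V, h => by
    obtain ⟨M, h1, h2, h3⟩ := ev_spec V fun x hx => h x (List.mem_cons_of_mem _ hx)
    have hl := h l List.mem_cons_self
    refine ⟨gA l * invTHom M, ?_, ?_, ?_⟩
    · rw [Matrix.SpecialLinearGroup.coe_mul, gA_val hl, h2, ← toMat_mulN]
      congr 1
      show _ = (forceNat (ev V) _) % _
      rw [forceNat_eq]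
      have := mulN_lt (mA l) (ev V / 134217728)
      omega
    · rw [map_mul, invT_invT, Matrix.SpecialLinearGroup.coe_mul, invT_gA hl, h1, ← toMat_mulN]
      congr 1
      show _ = (forceNat (ev V) _) / _
      rw [forceNat_eq]
      have := mulN_lt (mA l) (ev V / 134217728)
      omega
    · show w l * evalWord w V = _
      rw [h3]
      refine SemidirectProduct.ext ?_ ?_
      · show QuotientGroup.mk (gA l) * phi (Multiplicative.ofAdd 1) (QuotientGroup.mk M) = _
        rw [phi_tau, theta_mk]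
        rfl
      · show Multiplicative.ofAdd (1 : ZMod 2) * Multiplicative.ofAdd _ = _
        rw [← ofAdd_add, List.length_cons]
        push_cast
        rw [add_comm]

theorem scalar_cases {c : ℕ} (hc : c = 1 ∨ c = 2 ∨ c = 4) :
    toMat (c * idN) = (c : ZMod 7) • (1 : Matrix (Fin 3) (Fin 3) (ZMod 7)) ∧ (c : ZMod 7) ^ 3 = 1 := by
  rcases hc with rfl | rfl | rfl <;> decide +kernel

theorem eval_one {V : List ℕ} (h : ∀ l ∈ V, l < 8) (he : V.length % 2 = 0)
    (hs : isScalar (ev V % 134217728) = true) : evalWord w V = 1 := by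
  obtain ⟨M, h1, -, h3⟩ := ev_spec V h
  simp only [isScalar, Bool.or_eq_true] at hs
  have ⟨c, hc, hm⟩ : ∃ c, (c = 1 ∨ c = 2 ∨ c = 4) ∧ ev V % 134217728 = c * idN := by
    rcases hs with (hs | hs) | hs
    · exact ⟨1, by simp, by rw [Nat.eq_of_beq_eq_true hs, one_mul]⟩
    · exact ⟨2, by simp, Nat.eq_of_beq_eq_true hs⟩
    · exact ⟨4, by simp, Nat.eq_of_beq_eq_true hs⟩
  rw [h3]
  refine SemidirectProduct.ext ?_ ?_
  · show (QuotientGroup.mk M : PSL) = _
    rw [mk_scalar (N := 1) (scalar_cases hc).2 h1 (by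
      rw [hm, (scalar_cases hc).1, Matrix.SpecialLinearGroup.coe_one])]
    rfl
  · show Multiplicative.ofAdd (V.length : ZMod 2) = 1
    rw [← ofAdd_zero]
    congr 1
    rw [← ZMod.natCast_mod, he, Nat.cast_zero]

/-- A relator check. -/
noncomputable def okRel (V : List ℕ) : Bool :=
  V.all (fun l => Nat.blt l 8) && Nat.beq (V.length % 2) 0 && isScalar (ev V % 134217728)

theorem rels_check : relsH.all okRel = true := by decide +kernel

theorem w_rels : ∀ V ∈ relsH, evalWord w V = 1 := by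
  intro V hV
  have h := List.all_eq_true.mp rels_check V hV
  simp only [okRel, Bool.and_eq_true, List.all_eq_true] at h
  exact eval_one (fun l hl => Nat.le_of_ble_eq_true (h.1.1 l hl)) (Nat.eq_of_beq_eq_true h.1.2) h.2

theorem trans_check : ∀ t ∈ transWords, (∀ l ∈ t.2.2.2, l ∈ [2, 3, 4, 5, 6, 7]) ∧
    t.2.2.2.length % 2 = 0 ∧ (t.2.2.1 = 1 ∨ t.2.2.1 = 2 ∨ t.2.2.1 = 4) ∧
    ev t.2.2.2 % 134217728 = t.2.2.1 * (idN + 8 ^ (3 * t.1 + t.2.1)) := by
  decide +kernel

theorem trans_entry : ∀ c ∈ [1, 2, 4], ∀ i j k l : Fin 3, i ≠ j →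
    (ent (c * (idN + 8 ^ (3 * (i : ℕ) + j))) (3 * (k : ℕ) + l) : ZMod 7) =
      (c : ZMod 7) * ((if k = l then 1 else 0) + if i = k ∧ j = l then 1 else 0) := by
  decide +kernel

theorem trans_all : ∀ i j : Fin 3, i ≠ j → ∃ t ∈ transWords, t.1 = (i : ℕ) ∧ t.2.1 = (j : ℕ) := by
  decide +kernel

theorem range_closure_top :
    Subgroup.closure {g | g ∈ [2, 3, 4, 5, 6, 7].map w} = (⊤ : Subgroup W) := by
  haveI : Fact (Nat.Prime 7) := ⟨by norm_num⟩
  set K := Subgroup.closure {g | g ∈ [2, 3, 4, 5, 6, 7].map w}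
  let T : Subgroup SL := K.comap
    ((SemidirectProduct.inl : PSL →* W).comp (QuotientGroup.mk' (Subgroup.center SL)))
  have hT : T = ⊤ := by
    refine LinearGroup.eq_top_of_transvection_mem fun i j hij c => ?_
    have h1 : Matrix.SpecialLinearGroup.transvection hij (1 : ZMod 7) ∈ T := by
      obtain ⟨t, ht, hi, hj⟩ := trans_all i j hij
      obtain ⟨hls, he, hc, hm⟩ := trans_check t ht
      obtain ⟨M, h1, -, h3⟩ := ev_spec t.2.2.2
        fun l hl => (by decide : ∀ l ∈ [2, 3, 4, 5, 6, 7], l < 8) l (hls l hl)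
      have hmem : evalWord w t.2.2.2 ∈ K :=
        Glue.evalWord_mem_gsub w [2, 3, 4, 5, 6, 7] t.2.2.2 hls
      rw [h3, ← ZMod.natCast_mod, he, Nat.cast_zero, ofAdd_zero] at hmem
      show (SemidirectProduct.inl (QuotientGroup.mk _) : W) ∈ K
      rw [← mk_scalar (scalar_cases hc).2 h1 (N := Matrix.SpecialLinearGroup.transvection hij 1) (by
        ext k l
        rw [hm, hi, hj, Matrix.smul_apply, Matrix.SpecialLinearGroup.transvection_coe,
          Matrix.add_apply, Matrix.one_apply, Matrix.single_apply, smul_eq_mul]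
        exact trans_entry _ (by rcases hc with h | h | h <;> rw [h] <;> simp) i j k l hij)]
      exact hmem
    obtain ⟨n, rfl⟩ : ∃ n : ℕ, (n : ZMod 7) = c := ⟨c.val, ZMod.natCast_zmod_val c⟩
    induction n with
    | zero => rw [Nat.cast_zero, Matrix.SpecialLinearGroup.transvection_coeff_zero]; exact one_mem _
    | succ n ih =>
      rw [Nat.cast_succ, Matrix.SpecialLinearGroup.transvection_add]
      exact mul_mem ih h1
  have hinl : ∀ x : PSL, (SemidirectProduct.inl x : W) ∈ K := by
    intro x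
    obtain ⟨A, rfl⟩ := QuotientGroup.mk_surjective x
    exact (show A ∈ T by rw [hT]; trivial)
  have htau : (SemidirectProduct.inr (Multiplicative.ofAdd 1) : W) ∈ K := by
    have h2 : w 2 ∈ K := Subgroup.subset_closure (by simp)
    have e : (SemidirectProduct.inr (Multiplicative.ofAdd 1) : W) =
        (SemidirectProduct.inl (QuotientGroup.mk (gA 2) : PSL))⁻¹ * w 2 := by
      rw [eq_inv_mul_iff_mul_eq]
      refine SemidirectProduct.ext ?_ ?_
      · simp only [SemidirectProduct.mul_left, SemidirectProduct.left_inl, SemidirectProduct.right_inl,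
          SemidirectProduct.left_inr, map_one, mul_one]
        rfl
      · rw [SemidirectProduct.mul_right, SemidirectProduct.right_inl, SemidirectProduct.right_inr,
          one_mul]
        rfl
    rw [e]
    exact mul_mem (inv_mem (hinl _)) h2
  rw [eq_top_iff]
  rintro x -
  rw [← SemidirectProduct.inl_left_mul_inr_right x]
  refine mul_mem (hinl _) ?_
  rcases z2_cases x.right with h | h <;> rw [h]
  · rw [map_one]; exact one_mem _
  · exact htau

end Cfsg.Agent.CosetEnum.ON.L37
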